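import Mathlib
import Cfsg.Agent.Lib.Helper71.SUG2.Defs

/-!
# SUG2 (S2412, block II), package [II-ADJ]: from one adjacent pair to all adjacent pairs
-/

set_option autoImplicit false
open scoped Matrix

namespace Cfsg.Agent.Lib.Helper84.SUG2

open Cfsg.Agent.Lib.Helper71.SUG2

universe u

theorem pair_comp {F : Type u} [Field F] {n : ℕ} (σ : Equiv.Perm (Fin n)) (i j : Fin n) (a : F) :
    (E i + a • E j : Fin n → F) ∘ σ = E (σ.symm i) + a • E (σ.symm j) := by
  funext l
  simp [Pi.single_apply, Equiv.eq_symm_apply]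

theorem rot_val_of_lt {n : ℕ} (k : Fin n) (h : k.val + 1 < n) :
    (finRotate n k).val = k.val + 1 := by
  obtain ⟨m, rfl⟩ : ∃ m, n = m + 1 := ⟨n - 1, by omega⟩
  rw [coe_finRotate_of_ne_last]
  intro hk
  rw [hk] at h
  simp at h

theorem pkgAdj : PkgAdj.{u} := by
  intro F _ _ hF n hn α hα C hC h4 i a ha
  have h2 : (2 : F) = 0 := f4_two hF
  have hα0 : α ≠ 0 := by
    rintro rfl
    simp at hα
  have hα3 : α ^ 3 = 1 := by linear_combination (α - 1) * hα
  have hrot3 : finRotate n (⟨3, by omega⟩ : Fin n) = ⟨4, by omega⟩ :=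
    Fin.ext (rot_val_of_lt _ (by simp; omega))
  have hA : (E (⟨3, by omega⟩ : Fin n) + α ^ 2 • E (⟨4, by omega⟩ : Fin n) : Fin n → F) ∈ C := by
    have h := hC.rotInv _ h4
    rw [pair_comp] at h
    rw [Equiv.symm_apply_apply] at h
    have e : (finRotate n).symm (⟨4, by omega⟩ : Fin n) = ⟨3, by omega⟩ := by
      rw [← hrot3, Equiv.symm_apply_apply]
    rw [e] at h
    exact h
  have hd3 : dvec n α (⟨3, by omega⟩ : Fin n) = α := by simp [dvec]
  have hd4 : dvec n α (⟨4, by omega⟩ : Fin n) = α ^ 2 := by simp [dvec]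
  have h34 : (⟨3, by omega⟩ : Fin n) ≠ ⟨4, by omega⟩ := by simp [Fin.ext_iff]
  have hdm : ∀ b : F,
      (E (⟨3, by omega⟩ : Fin n) + b • E (⟨4, by omega⟩ : Fin n) : Fin n → F) ∈ C →
      (E (⟨3, by omega⟩ : Fin n) + (α * b) • E (⟨4, by omega⟩ : Fin n) : Fin n → F) ∈ C := by
    intro b hb
    have h := hC.base.scal _ (hC.dmul _ hb) (α ^ 2) (pow_ne_zero 2 hα0)
    convert h using 1
    funext l
    simp only [Pi.add_apply, Pi.smul_apply, smul_eq_mul, Pi.single_apply]
    by_cases hl3 : l = ⟨3, by omega⟩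
    · subst hl3
      rw [hd3]
      simp only [h34, if_true, if_false]
      linear_combination (-1 : F) * hα3
    · by_cases hl4 : l = ⟨4, by omega⟩
      · subst hl4
        rw [hd4]
        simp only [hl3, if_true, if_false]
        linear_combination (-(α * b)) * hα3
      · simp [hl3, hl4]
  have hB : (E (⟨3, by omega⟩ : Fin n) + (1 : F) • E (⟨4, by omega⟩ : Fin n) : Fin n → F) ∈ C := by
    have h := hdm _ hA
    have e : α * α ^ 2 = 1 := by linear_combination hα3
    rwa [e] at h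
  have hC' : (E (⟨3, by omega⟩ : Fin n) + α • E (⟨4, by omega⟩ : Fin n) : Fin n → F) ∈ C := by
    have h := hdm _ hB
    rwa [mul_one] at h
  have hP3 : ∀ a : F, a ≠ 0 →
      (E (⟨3, by omega⟩ : Fin n) + a • E (finRotate n (⟨3, by omega⟩ : Fin n)) : Fin n → F) ∈ C := by
    intro a ha
    rw [hrot3]
    have ha3 := f4_cube hF a ha
    have h0 : (a - 1) * ((a - α) * (a - α ^ 2)) = 0 := by
      linear_combination ha3 + (a - 1) * hα3 - (a ^ 2 - a) * hα
    rcases mul_eq_zero.mp h0 with h | h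
    · have e : a = 1 := sub_eq_zero.mp h
      rw [e]; exact hB
    · rcases mul_eq_zero.mp h with h | h
      · have e : a = α := sub_eq_zero.mp h
        rw [e]; exact hC'
      · have e : a = α ^ 2 := sub_eq_zero.mp h
        rw [e]; exact hA
  have hstep : ∀ k : Fin n,
      (∀ a : F, a ≠ 0 → (E k + a • E (finRotate n k) : Fin n → F) ∈ C) →
      ∀ a : F, a ≠ 0 →
        (E (finRotate n k) + a • E (finRotate n (finRotate n k)) : Fin n → F) ∈ C := by
    intro k hk a ha
    have h := hC.rot _ (hk a ha)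
    rw [pair_comp] at h
    simpa using h
  have key : ∀ d : ℕ, ∀ a : F, a ≠ 0 →
      (E (((finRotate n) ^ d) (⟨3, by omega⟩ : Fin n)) +
        a • E (finRotate n (((finRotate n) ^ d) (⟨3, by omega⟩ : Fin n))) : Fin n → F) ∈ C := by
    intro d
    induction d with
    | zero => simpa using hP3
    | succ d ih =>
      intro a ha
      rw [pow_succ', Equiv.Perm.mul_apply]
      exact hstep _ ih a ha
  have hex : ∃ d : ℕ, ((finRotate n) ^ d) (⟨3, by omega⟩ : Fin n) = i := by
    obtain ⟨m, rfl⟩ : ∃ m, n = m + 2 := ⟨n - 2, by omega⟩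
    have hfix : ∀ k : Fin (m + 2), finRotate (m + 2) k ≠ k := by
      intro k
      exact Equiv.Perm.mem_support.mp (by rw [support_finRotate]; exact Finset.mem_univ k)
    exact (isCycle_finRotate (n := m)).exists_pow_eq (hfix _) (hfix i)
  obtain ⟨d, hd⟩ := hex
  rw [← hd]
  exact key d a ha

end Cfsg.Agent.Lib.Helper84.SUG2
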