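import Mathlib
import Cfsg.Agent.Lib.Helper71.SUG2.Defs

/-!
# SUG2 (S2412, block II), package [II-ALLPAIRS]: from adjacent pairs to all pairs
-/

set_option autoImplicit false
open scoped Matrix

namespace Cfsg.Agent.Lib.Helper84.SUG2

open Cfsg.Agent.Lib.Helper71.SUG2

universe u

theorem H_pair {F : Type u} [Field F] {n : ℕ} (i k r : Fin n) (a : F) (hik : i ≠ k)
    (hir : i ≠ r) (hkr : k ≠ r) :
    H n F (E i + a • E k) (E k + (1 : F) • E r) = a := by
  rw [H_apply, Finset.sum_eq_single k]
  · simp [Pi.single_apply, hik.symm, hkr]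
  · intro l _ hlk
    by_cases hlr : l = r
    · subst hlr; simp [Pi.single_apply, hir.symm, hkr.symm]
    · simp [Pi.single_apply, hlk, hlr]
  · intro h; exact absurd (Finset.mem_univ k) h

theorem pkgAllPairs : PkgAllPairs.{u} := by
  intro F _ _ hF n hn C hC hadj i j hij a ha
  have h2 : (2 : F) = 0 := f4_two hF
  obtain ⟨m, rfl⟩ : ∃ m, n = m + 2 := ⟨n - 2, by omega⟩
  have hfix : ∀ k : Fin (m + 2), finRotate (m + 2) k ≠ k := by
    intro k
    exact Equiv.Perm.mem_support.mp (by rw [support_finRotate]; exact Finset.mem_univ k)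
  obtain ⟨d, hd⟩ := (isCycle_finRotate (n := m)).exists_pow_eq (hfix i) (hfix j)
  have key : ∀ d : ℕ, ((finRotate (m + 2)) ^ d) i ≠ i → ∀ a : F, a ≠ 0 →
      (E i + a • E (((finRotate (m + 2)) ^ d) i) : Fin (m + 2) → F) ∈ C := by
    intro d
    induction d with
    | zero => intro h; exact absurd rfl h
    | succ d ih =>
      intro hne a ha
      rw [pow_succ', Equiv.Perm.mul_apply] at hne ⊢
      by_cases hki : ((finRotate (m + 2)) ^ d) i = i
      · rw [hki]; exact hadj i a ha
      · have he := ih hki a ha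
        have hf := hadj (((finRotate (m + 2)) ^ d) i) 1 one_ne_zero
        have h3 := hC.third _ he _ hf
        rw [H_pair i _ _ a (Ne.symm hki) (Ne.symm hne) (Ne.symm (hfix _))] at h3
        convert h3 using 1
        ext l
        simp only [Pi.add_apply, Pi.smul_apply, smul_eq_mul]
        linear_combination
          (-(a * (E (((finRotate (m + 2)) ^ d) i) : Fin (m + 2) → F) l)) * h2
  rw [← hd]
  exact key d (by rw [hd]; exact hij.symm) a ha

end Cfsg.Agent.Lib.Helper84.SUG2
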